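import Groth.Agent.GrpSchLib.RedSubgroup
import Groth.Agent.GrpSchLib.HomFlat
import Groth.Agent.GrpSchLib.PerfectSmooth
import Groth.Agent.GrpSchLib.SmoothReduced
import Groth.Agent.CartanPre.Main
import Groth.Agent.SmoothWeilLib.Param
import Groth.Agent.FpqcDescLib.Basic
import Groth.Agent.H23.RedSub
import Groth.Prelude.Def_Red

/-!
# Smoothness and connectedness of inverse images of subgroups
-/

universe u

open CategoryTheory CategoryTheory.Limits MonoidalCategory CartesianMonoidalCategory MonObj AlgebraicGeometry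

set_option backward.isDefEq.respectTransparency false
set_option backward.isDefEq.respectTransparency.types false
set_option synthInstance.maxHeartbeats 80000
set_option linter.style.haveILetI false

noncomputable section

namespace Groth.Agent.SubPre

/-- The inverse image of a subgroup is a subgroup. -/
theorem exists_grpObj_pullback {S : Scheme.{u}} {G G' H' : Over S} [GrpObj G] [GrpObj G'] [GrpObj H'] (h' : H' ⟶ G')
    [IsMonHom h'] [Mono h'] (u : G ⟶ G') [IsMonHom u] :
    ∃ str : GrpObj (pullback h' u), letI := str; IsMonHom (pullback.snd h' u) ∧ IsMonHom (pullback.fst h' u) := by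
  let a := pullback.snd h' u
  let b := pullback.fst h' u
  have hab : b ≫ h' = a ≫ u := pullback.condition
  haveI : Mono a := inferInstance
  have lift' : ∀ {T : Over S} (g : T ⟶ G) (x : T ⟶ H'), x ≫ h' = g ≫ u → ∃ z : T ⟶ pullback h' u, z ≫ a = g :=
    fun g x hx => ⟨pullback.lift x g hx, pullback.lift_snd _ _ _⟩
  obtain ⟨η', hη⟩ := lift' (T := 𝟙_ (Over S)) η[G] η[H'] (by rw [IsMonHom.one_hom, IsMonHom.one_hom])
  obtain ⟨μ', hμ⟩ := lift' ((fst (pullback h' u) (pullback h' u) ≫ a) * (snd _ _ ≫ a))
    ((fst (pullback h' u) (pullback h' u) ≫ b) * (snd _ _ ≫ b))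
    (by rw [MonObj.mul_comp, MonObj.mul_comp, Category.assoc, Category.assoc, Category.assoc, Category.assoc, hab])
  obtain ⟨ι', hι⟩ := lift' a⁻¹ b⁻¹ (by rw [GrpObj.inv_comp, GrpObj.inv_comp, hab])
  obtain ⟨str, hstr⟩ := GrpSchLib.exists_grpObj_of_mono a η' hη μ' hμ ι' hι
  letI := str
  haveI := hstr
  refine ⟨str, hstr, ⟨?_, ?_⟩⟩
  · rw [← cancel_mono h', Category.assoc, hab, ← Category.assoc, IsMonHom.one_hom, IsMonHom.one_hom, IsMonHom.one_hom]
  · rw [← cancel_mono h', Category.assoc, hab, ← Category.assoc, IsMonHom.mul_hom, Category.assoc, Category.assoc,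
      IsMonHom.mul_hom, IsMonHom.mul_hom, tensorHom_comp_tensorHom_assoc, tensorHom_comp_tensorHom_assoc, hab]

variable {K : Type u} [Field K] {D H Q : Over (Spec (CommRingCat.of K))} [GrpObj H] [GrpObj Q]

/-- A group over a perfect field extended by a smooth group and containing the kernel in a reduced subscheme is smooth. -/
theorem smooth_of_kernel_le [PerfectField K] [LocallyOfFiniteType H.hom] [QuasiCompact H.hom]
    [LocallyOfFiniteType Q.hom] [IsReduced Q.left] (p : H ⟶ Q) [IsMonHom p] [QuasiCompact p.left] [Surjective p.left]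
    [IsReduced D.left] (d : D ⟶ H)
    (hd : ∀ (T : Over (Spec (CommRingCat.of K))) (z : T ⟶ H), z ≫ p = 1 → ∃ z' : T ⟶ D, z' ≫ d = z) :
    Smooth H.hom := by
  obtain ⟨R, _, i, hi, hicl, hR, his, hRlft, hRqc⟩ := GrpSchLib.RedSubgroup.exists_redSubgroup H
  haveI : Mono i := Over.mono_of_mono_left _
  -- the reduced subgroup maps faithfully flatly to the quotient
  haveI : Surjective (i ≫ p).left := by rw [Over.comp_left]; infer_instance
  haveI : QuasiCompact (i ≫ p).left := by rw [Over.comp_left]; infer_instance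
  haveI : Flat (i ≫ p).left := GrpSchLib.flat_of_surjective_hom (i ≫ p)
  let r := pullback.fst p (i ≫ p)
  let l := pullback.snd p (i ≫ p)
  have hsq : IsPullback r.left l.left p.left (i ≫ p).left := (IsPullback.of_hasPullback p (i ≫ p)).map (Over.forget _)
  haveI : Surjective r.left := MorphismProperty.of_isPullback (P := @Surjective) hsq.flip ‹_›
  haveI : Flat r.left := MorphismProperty.of_isPullback (P := @Flat) hsq.flip ‹_›
  haveI : QuasiCompact r.left := MorphismProperty.of_isPullback (P := @QuasiCompact) hsq.flip ‹_›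
  -- the kernel lies in the reduced subgroup
  obtain ⟨e, he⟩ : ∃ e : D ⟶ R, e ≫ i = d := by
    obtain ⟨g, hg⟩ := H23.RedSub.exists_lift_closed d.left i.left
      (by rw [i.left.surjective.range_eq]; exact Set.subset_univ _)
    exact ⟨Over.homMk g (by rw [← Over.w i, reassoc_of% hg, Over.w d]), Over.OverMorphism.ext hg⟩
  obtain ⟨z, hz⟩ := hd _ ((l ≫ i)⁻¹ * r) (by
    rw [MonObj.mul_comp, GrpObj.inv_comp, Category.assoc, ← pullback.condition, inv_mul_cancel])
  have hr : (l * (z ≫ e)) ≫ i = r := by
    rw [MonObj.mul_comp, Category.assoc, he, hz, mul_inv_cancel_left]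
  have hcov : FpqcDescLib.Covers r.left :=
    FpqcDescLib.covers_of_isCovering (FpqcDescLib.isCovering_of_quasiCompact r.left)
  obtain ⟨n, hn, -⟩ := hcov.over_desc (l * (z ≫ e)) fun T a b hab => by
    rw [← cancel_mono i, Category.assoc, Category.assoc, hr, hab]
  haveI := hcov.over_epi
  have hni : n ≫ i = 𝟙 H := by rw [← cancel_epi r, ← Category.assoc, hn, hr, Category.comp_id]
  haveI : IsIso i := ⟨n, by rw [← cancel_mono i, Category.assoc, hni, Category.comp_id, Category.id_comp], hni⟩
  haveI : IsIso (CategoryTheory.inv i).left := inferInstanceAs (IsIso ((Over.forget _).map (CategoryTheory.inv i)))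
  haveI : IsReduced H.left := isReduced_of_isOpenImmersion (CategoryTheory.inv i).left
  exact GrpSchLib.smooth_of_perfectField_of_isReduced H

/-- An extension of a connected group by a connected group is connected. -/
theorem connectedSpace_of_kernel_le [IsAlgClosed K] [LocallyOfFiniteType H.hom]
    [LocallyOfFiniteType Q.hom] [ConnectedSpace ↥Q.left] (p : H ⟶ Q) [IsMonHom p] [Surjective p.left]
    (hop : IsOpenMap p.left) [ConnectedSpace ↥D.left] (d : D ⟶ H)
    (hd : ∀ (T : Over (Spec (CommRingCat.of K))) (z : T ⟶ H), z ≫ p = 1 → ∃ z' : T ⟶ D, z' ≫ d = z) :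
    ConnectedSpace ↥H.left := by
  haveI : Subsingleton ↥(Spec (CommRingCat.of K)) := inferInstanceAs (Subsingleton (PrimeSpectrum K))
  haveI : JacobsonSpace H.left := LocallyOfFiniteType.jacobsonSpace H.hom
  haveI : JacobsonSpace Q.left := LocallyOfFiniteType.jacobsonSpace Q.hom
  let x₀ : ↥(𝟙_ (Over (Spec (CommRingCat.of K)))).left := IsLocalRing.closedPoint K
  haveI : Nonempty ↥H.left := ⟨η[H].left x₀⟩
  -- points with the same image are in the same clopen sets
  have hsat : ∀ (W : Set ↥H.left), IsClopen W → ∀ h h' : 𝟙_ (Over (Spec (CommRingCat.of K))) ⟶ H,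
      h ≫ p = h' ≫ p → h.left x₀ ∈ W → h'.left x₀ ∈ W := by
    intro W hW h h' he hm
    obtain ⟨z, hz⟩ := hd _ (h⁻¹ * h') (by rw [MonObj.mul_comp, GrpObj.inv_comp, he, inv_mul_cancel])
    obtain ⟨z₀, hz₀⟩ := hd _ (1 : 𝟙_ (Over (Spec (CommRingCat.of K))) ⟶ H) (MonObj.one_comp p)
    let τ : D ⟶ H := (toUnit D ≫ h) * d
    have hτ : ∀ y : 𝟙_ (Over (Spec (CommRingCat.of K))) ⟶ D, τ.left (y.left x₀) = (h * (y ≫ d)).left x₀ := fun y => by
      have e1 : y ≫ τ = h * (y ≫ d) := by
        rw [MonObj.comp_mul, ← Category.assoc, toUnit_unique (y ≫ toUnit D) (𝟙 _), Category.id_comp]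
      exact congrArg (fun m : 𝟙_ (Over (Spec (CommRingCat.of K))) ⟶ H => m.left x₀) e1
    have hU : τ.left ⁻¹' W = Set.univ := by
      refine (hW.preimage τ.left.continuous).eq_univ ⟨z₀.left x₀, ?_⟩
      rw [Set.mem_preimage, hτ, hz₀, _root_.mul_one]
      exact hm
    have h1 : τ.left (z.left x₀) ∈ W := hU.ge (Set.mem_univ (z.left x₀))
    rwa [hτ, hz, mul_inv_cancel_left] at h1
  refine connectedSpace_iff_clopen.mpr ⟨inferInstance, fun W hW => ?_⟩
  by_contra hne
  push Not at hne
  have h1 : (p.left '' W).Nonempty := hne.1.image _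
  have h2 : (p.left '' Wᶜ).Nonempty := (Set.nonempty_compl.mpr hne.2).image _
  have hcov : p.left '' W ∪ p.left '' Wᶜ = Set.univ := by
    rw [← Set.image_union, Set.union_compl_self, Set.image_univ, p.left.surjective.range_eq]
  obtain ⟨y, -, hy⟩ := PreconnectedSpace.isPreconnected_univ (p.left '' W) (p.left '' Wᶜ) (hop _ hW.2)
    (hop _ hW.compl.2) hcov.ge (by rwa [Set.univ_inter]) (by rwa [Set.univ_inter])
  obtain ⟨y', hy', hy'c⟩ := nonempty_inter_closedPoints (Z := p.left '' W ∩ p.left '' Wᶜ) ⟨y, hy⟩
    ((hop _ hW.2).inter (hop _ hW.compl.2)).isLocallyClosed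
  have key : ∀ V : Set ↥H.left, IsClosed V → y' ∈ p.left '' V →
      ∃ h : 𝟙_ (Over (Spec (CommRingCat.of K))) ⟶ H, h.left x₀ ∈ V ∧ p.left (h.left x₀) = y' := by
    rintro V hV ⟨x, hx, hxy⟩
    obtain ⟨c, hc, hcc⟩ := nonempty_inter_closedPoints (Z := V ∩ p.left ⁻¹' {y'}) ⟨x, hx, hxy⟩
      (hV.inter (hy'c.preimage p.left.continuous)).isLocallyClosed
    refine ⟨Over.homMk (pointOfClosedPoint H.hom c hcc) (pointOfClosedPoint_comp H.hom c hcc), ?_, ?_⟩
    · show pointOfClosedPoint H.hom c hcc _ ∈ V
      rw [pointOfClosedPoint_apply]; exact hc.1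
    · show p.left (pointOfClosedPoint H.hom c hcc _) = y'
      rw [pointOfClosedPoint_apply]; exact hc.2
  obtain ⟨h, hh, hhy⟩ := key W hW.1 hy'.1
  obtain ⟨h', hh', hhy'⟩ := key Wᶜ hW.compl.1 hy'.2
  refine hh' (hsat W hW h h' (Over.OverMorphism.ext (ext_of_apply_closedPoint_eq Q.hom ?_ (Over.w (h' ≫ p)) ?_)) hh)
  · exact Over.w (h ≫ p)
  · exact (Scheme.Hom.comp_apply _ _ _).trans (hhy.trans (hhy'.symm.trans (Scheme.Hom.comp_apply _ _ _).symm))

variable {S : Scheme.{u}} {G G' C' H' : Over S} [GrpObj G] [GrpObj G'] [GrpObj C'] [GrpObj H']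

/-- The kernel of the restricted homomorphism lies in the inverse image of the smaller subgroup. -/
theorem exists_map (u : G ⟶ G') (c' : C' ⟶ G') (h' : H' ⟶ G') (f : C' ⟶ H') (hf : f ≫ h' = c') [IsMonHom c'] [Mono h']
    [IsMonHom h'] [IsMonHom u] [GrpObj (pullback h' u)] [IsMonHom (pullback.snd h' u)]
    {T : Scheme.{u}} (b : T ⟶ S) :
    ∀ (X : Over T) (z : X ⟶ Red.bc b (pullback h' u)), z ≫ (Over.pullback b).map (pullback.fst h' u) = 1 →
      ∃ z' : X ⟶ Red.bc b (pullback c' u),
        z' ≫ (Over.pullback b).map (pullback.lift (pullback.fst c' u ≫ f) (pullback.snd c' u)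
          (by rw [Category.assoc, hf, pullback.condition])) = z := by
  intro X z hz
  let F := Over.pullback b
  haveI : F.IsRightAdjoint := (Over.mapPullbackAdj b).isRightAdjoint
  have sqC := (IsPullback.of_hasPullback c' u).map F
  have sqH := (IsPullback.of_hasPullback h' u).map F
  have hc1 : (1 : X ⟶ Red.bc b C') ≫ F.map c' = (z ≫ F.map (pullback.snd h' u)) ≫ F.map u := by
    rw [MonObj.one_comp, Category.assoc, ← sqH.w, ← Category.assoc, hz, MonObj.one_comp]
  have e1 : F.map (pullback.lift (pullback.fst c' u ≫ f) (pullback.snd c' u)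
      (by rw [Category.assoc, hf, pullback.condition])) ≫ F.map (pullback.fst h' u) =
      F.map (pullback.fst c' u) ≫ F.map f := by
    rw [← Functor.map_comp, pullback.lift_fst, Functor.map_comp]
  have e2 : F.map (pullback.lift (pullback.fst c' u ≫ f) (pullback.snd c' u)
      (by rw [Category.assoc, hf, pullback.condition])) ≫ F.map (pullback.snd h' u) = F.map (pullback.snd c' u) := by
    rw [← Functor.map_comp, pullback.lift_snd]
  refine ⟨sqC.lift 1 (z ≫ F.map (pullback.snd h' u)) hc1, sqH.hom_ext ?_ ?_⟩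
  · haveI : Mono (F.map h') := inferInstance
    rw [← cancel_mono (F.map h'), Category.assoc _ _ (F.map (pullback.fst h' u))]
    show ((_ : _ ⟶ _) ≫ (_ : _ ⟶ _)) ≫ _ = _
    rw [e1, ← Category.assoc, sqC.lift_fst, Category.assoc, ← Functor.map_comp, hf, MonObj.one_comp,
      show z ≫ F.map (pullback.fst h' u) = 1 from hz, MonObj.one_comp]
  · rw [Category.assoc]
    refine (congrArg (fun m => sqC.lift 1 (z ≫ F.map (pullback.snd h' u)) hc1 ≫ m) e2).trans ?_
    exact sqC.lift_snd _ _ _

set_option maxHeartbeats 1000000 in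
/-- Smoothness and connectedness of the inverse image. -/
theorem main [QuasiCompact G.hom] [LocallyOfFinitePresentation G.hom] [QuasiSeparated G'.hom]
    [LocallyOfFinitePresentation G'.hom]
    (u : G ⟶ G') [IsMonHom u] [Flat u.left] [Surjective u.left] (c' : C' ⟶ G') [IsMonHom c'] [Mono c']
    [LocallyOfFinitePresentation C'.hom] (h' : H' ⟶ G') [IsMonHom h'] [Mono h'] [QuasiCompact H'.hom]
    [LocallyOfFinitePresentation H'.hom] (f : C' ⟶ H') (hf : f ≫ h' = c') :
    (Smooth (pullback c' u).hom → Smooth H'.hom → Smooth (pullback h' u).hom) ∧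
    ((∀ s : S, _root_.IsConnected ((pullback c' u).hom.base ⁻¹' {s})) →
      (∀ s : S, _root_.IsConnected (H'.hom.base ⁻¹' {s})) →
      ∀ s : S, _root_.IsConnected ((pullback h' u).hom.base ⁻¹' {s})) := by
  haveI : QuasiCompact (u.left ≫ G'.hom) := by rw [Over.w u]; infer_instance
  haveI : QuasiCompact u.left := QuasiCompact.of_comp u.left G'.hom
  haveI : LocallyOfFinitePresentation (u.left ≫ G'.hom) := by rw [Over.w u]; infer_instance
  haveI : LocallyOfFinitePresentation u.left := AlgSpPts.locallyOfFinitePresentation_of_comp u.left G'.hom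
  obtain ⟨str, hsnd, hfst⟩ := exists_grpObj_pullback h' u
  obtain ⟨strC, hsndC, hfstC⟩ := exists_grpObj_pullback c' u
  let HH := pullback h' u
  let p := pullback.fst h' u
  letI := str
  letI := strC
  haveI := hsnd
  haveI := hfst
  have sqp : IsPullback p.left (pullback.snd h' u).left h'.left u.left :=
    (IsPullback.of_hasPullback h' u).map (Over.forget S)
  haveI : Flat p.left := MorphismProperty.of_isPullback (P := @Flat) sqp.flip ‹_›
  haveI : Surjective p.left := MorphismProperty.of_isPullback (P := @Surjective) sqp.flip ‹_›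
  haveI : QuasiCompact p.left := MorphismProperty.of_isPullback (P := @QuasiCompact) sqp.flip ‹_›
  haveI : LocallyOfFinitePresentation p.left := MorphismProperty.of_isPullback (P := @LocallyOfFinitePresentation) sqp.flip ‹_›
  haveI : LocallyOfFinitePresentation HH.hom := by rw [← Over.w p]; infer_instance
  haveI : QuasiCompact HH.hom := by rw [← Over.w p]; infer_instance
  have sqC : IsPullback (pullback.fst c' u).left (pullback.snd c' u).left c'.left u.left :=
    (IsPullback.of_hasPullback c' u).map (Over.forget S)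
  haveI : LocallyOfFinitePresentation (pullback.fst c' u).left :=
    MorphismProperty.of_isPullback (P := @LocallyOfFinitePresentation) sqC.flip ‹_›
  haveI : LocallyOfFinitePresentation (pullback c' u).hom := by rw [← Over.w (pullback.fst c' u)]; infer_instance
  have props : ∀ (s : S), LocallyOfFiniteType (Red.geomFibre s HH).hom ∧ QuasiCompact (Red.geomFibre s HH).hom ∧
      LocallyOfFiniteType (Red.geomFibre s H').hom ∧
      QuasiCompact ((Over.pullback (Red.geomPt s)).map p).left ∧ Surjective ((Over.pullback (Red.geomPt s)).map p).left ∧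
      IsOpenMap ((Over.pullback (Red.geomPt s)).map p).left := fun s => by
    let b := Red.geomPt s
    let ps := ((Over.pullback b).map p).left
    have sq : IsPullback (pullback.fst HH.hom b) ps p.left (pullback.fst H'.hom b) := by
      have h1 : ps ≫ pullback.snd H'.hom b = pullback.snd HH.hom b := Over.w ((Over.pullback b).map p)
      refine IsPullback.of_bot ?_ (pullback.lift_fst _ _ _).symm (IsPullback.of_hasPullback H'.hom b)
      rw [h1, Over.w p]
      exact IsPullback.of_hasPullback HH.hom b
    haveI : Flat ps := MorphismProperty.of_isPullback (P := @Flat) sq ‹_›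
    haveI : LocallyOfFinitePresentation ps := MorphismProperty.of_isPullback (P := @LocallyOfFinitePresentation) sq ‹_›
    exact ⟨inferInstanceAs (LocallyOfFiniteType (pullback.snd HH.hom b)), inferInstanceAs (QuasiCompact (pullback.snd HH.hom b)),
      inferInstanceAs (LocallyOfFiniteType (pullback.snd H'.hom b)),
      MorphismProperty.of_isPullback (P := @QuasiCompact) sq ‹_›, MorphismProperty.of_isPullback (P := @Surjective) sq ‹_›,
      ps.isOpenMap⟩
  constructor
  · intro hC hH
    haveI : Flat HH.hom := by rw [← Over.w p]; infer_instance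
    refine CartanPre.smooth_of_geomFibres HH fun s => ?_
    obtain ⟨i1, i2, i3, i4, i5, -⟩ := props s
    haveI : Smooth (Red.geomFibre s H').hom := inferInstanceAs (Smooth (pullback.snd H'.hom (Red.geomPt s)))
    haveI : Smooth (Red.geomFibre s (pullback c' u)).hom :=
      inferInstanceAs (Smooth (pullback.snd (pullback c' u).hom (Red.geomPt s)))
    haveI : IsReduced (Red.geomFibre s H').left := GrpSchLib.isReduced_of_smooth_field (Red.geomFibre s H').hom
    haveI : IsReduced (Red.geomFibre s (pullback c' u)).left :=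
      GrpSchLib.isReduced_of_smooth_field (Red.geomFibre s (pullback c' u)).hom
    exact smooth_of_kernel_le (D := Red.geomFibre s (pullback c' u)) ((Over.pullback (Red.geomPt s)).map p) _
      (exists_map u c' h' f hf (Red.geomPt s))
  · intro hC hH s
    obtain ⟨i1, i2, i3, i4, i5, i6⟩ := props s
    have conn : ∀ (X : Over S) [GrpObj X] [LocallyOfFiniteType X.hom],
        (∀ t : S, _root_.IsConnected (X.hom.base ⁻¹' {t})) → ConnectedSpace ↥(Red.geomFibre s X).left := by
      intro X _ _ hX
      haveI : Subsingleton ↥(Spec (CommRingCat.of (AlgebraicClosure (S.residueField s)))) :=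
        inferInstanceAs (Subsingleton (PrimeSpectrum (AlgebraicClosure (S.residueField s))))
      have hs := SmoothWeilLib.isConnected_preimage_snd hX (Red.geomPt s)
        (IsLocalRing.closedPoint (AlgebraicClosure (S.residueField s)))
      have hu : (Set.univ : Set ↥(pullback X.hom (Red.geomPt s))) =
          (pullback.snd X.hom (Red.geomPt s)).base ⁻¹' {IsLocalRing.closedPoint (AlgebraicClosure (S.residueField s))} :=
        (Set.eq_univ_of_forall fun x => Subsingleton.elim
          (α := ↥(Spec (CommRingCat.of (AlgebraicClosure (S.residueField s))))) _ _).symm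
      have h2 : _root_.IsConnected (Set.univ : Set ↥(pullback X.hom (Red.geomPt s))) := hu ▸ hs
      exact connectedSpace_iff_univ.mpr h2
    haveI := conn H' hH
    haveI := conn (pullback c' u) hC
    haveI : ConnectedSpace ↥(Red.geomFibre s HH).left :=
      connectedSpace_of_kernel_le (D := Red.geomFibre s (pullback c' u)) ((Over.pullback (Red.geomPt s)).map p) i6 _
        (exists_map u c' h' f hf (Red.geomPt s))
    have hr : HH.hom.base ⁻¹' {s} = Set.range (pullback.fst HH.hom (Red.geomPt s)) := by
      have hg : Set.range (Red.geomPt s) = {s} := by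
        show Set.range (Spec.map (CommRingCat.ofHom (algebraMap (S.residueField s) (AlgebraicClosure (S.residueField s)))) ≫
          S.fromSpecResidueField s) = {s}
        ext x
        refine ⟨?_, fun hx => ⟨IsLocalRing.closedPoint _, ?_⟩⟩
        · rintro ⟨q, rfl⟩
          exact (Scheme.Hom.comp_apply _ _ _).trans (Scheme.fromSpecResidueField_apply _ _)
        · rw [hx, Scheme.Hom.comp_apply]; exact Scheme.fromSpecResidueField_apply _ _
      rw [Scheme.Pullback.range_fst, hg]
    haveI : ConnectedSpace ↥(pullback HH.hom (Red.geomPt s)) := ‹ConnectedSpace ↥(Red.geomFibre s HH).left›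
    rw [hr, ← Set.image_univ]
    exact isConnected_univ.image _ (pullback.fst HH.hom (Red.geomPt s)).continuous.continuousOn

end Groth.Agent.SubPre
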